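import Groth.Agent.Lib.GrpQ.Image
import Groth.Agent.Lib.GrpQ.RedSubgroup
import Groth.Agent.Lib.Lim.Thickening
import Groth.Agent.Lib.Tori.AffineDescent
import Groth.Agent.S5355

/-!
A quasi-compact monomorphism from a group scheme to an affine group scheme over a field is a closed
immersion, without finiteness assumptions.
-/

set_option autoImplicit false

universe u

open CategoryTheory Limits MonoidalCategory CartesianMonoidalCategory MonObj AlgebraicGeometry
open TensorProduct

namespace Groth.Agent.Lib.QCMono89

variable {k : Type u} [Field k]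

theorem isReduced_tensor [IsAlgClosed k] (A B : Type u) [CommRing A] [Algebra k A] [_root_.IsReduced A]
    [CommRing B] [Algebra k B] [_root_.IsReduced B] : _root_.IsReduced (B ⊗[k] A) := by
  classical
  refine ⟨fun s hs => ?_⟩
  obtain ⟨S, rfl⟩ := TensorProduct.exists_finset s
  let A₀ := Algebra.adjoin k ((S.image Prod.snd : Finset A) : Set A)
  have : Algebra.FiniteType k A₀ := (Subalgebra.fg_iff_finiteType A₀).1 ⟨_, rfl⟩
  have : _root_.IsReduced A₀ := isReduced_of_injective A₀.subtype Subtype.val_injective
  have := GrpQ.RedSubgroup.isReduced_tensor (k := k) A₀ B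
  let φ : B ⊗[k] A₀ →ₐ[k] B ⊗[k] A := Algebra.TensorProduct.map (AlgHom.id k B) A₀.val
  have hinj : Function.Injective φ :=
    Module.Flat.lTensor_preserves_injective_linearMap (M := B) A₀.val.toLinearMap Subtype.val_injective
  have hmem : ∀ i : S, i.1.2 ∈ A₀ := fun i =>
    Algebra.subset_adjoin (Finset.mem_coe.2 (Finset.mem_image_of_mem Prod.snd i.2))
  have he : φ (∑ i : S, i.1.1 ⊗ₜ[k] ⟨i.1.2, hmem i⟩) = ∑ i ∈ S, i.1 ⊗ₜ[k] i.2 := by
    rw [map_sum]
    exact Finset.sum_coe_sort S (fun i => i.1 ⊗ₜ[k] i.2)
  rw [← he] at hs ⊢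
  rw [(IsNilpotent.map_iff hinj).1 hs |>.eq_zero, map_zero]

/-- The reduced subgroup of an affine group over an algebraically closed field. -/
theorem exists_reduced_subgroup [IsAlgClosed k] (C : Over (Spec (CommRingCat.of k))) [GrpObj C]
    [IsAffine C.left] :
    ∃ (R : Over (Spec (CommRingCat.of k))) (_ : GrpObj R) (i : R ⟶ C), IsMonHom i ∧ IsClosedImmersion i.left ∧
      Surjective i.left ∧ IsReduced R.left := by
  let I := Scheme.IdealSheafData.vanishingIdeal (⊤ : TopologicalSpace.Closeds C.left)
  let R : Over (Spec (CommRingCat.of k)) := Over.mk (I.subschemeι ≫ C.hom)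
  let i : R ⟶ C := Over.homMk I.subschemeι rfl
  have hi : IsClosedImmersion i.left := inferInstanceAs (IsClosedImmersion I.subschemeι)
  have hR : IsReduced R.left := H75.RedSub.isReduced_vanishingIdeal _
  have hRa : IsAffine R.left := isAffine_of_isAffineHom i.left
  have hs : Surjective i.left := ⟨fun x => by
    have := (Scheme.IdealSheafData.range_subschemeι I).ge (show x ∈ (I.support : Set C.left) by
      rw [Scheme.IdealSheafData.coe_support_vanishingIdeal]; trivial)
    exact this⟩
  have := GrpQ.mono_of_left i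
  have hfac : ∀ {T : Over (Spec (CommRingCat.of k))} (x : T ⟶ C), IsReduced T.left → ∃ y, y ≫ i = x := by
    intro T x hT
    have H : i.left.ker ≤ x.left.ker := by
      rw [show i.left.ker = I from I.ker_subschemeι]
      refine Scheme.IdealSheafData.le_ofIdeals_iff.2 fun U a ha => ?_
      have ha' : IsNilpotent a := by
        rw [Scheme.IdealSheafData.vanishingIdeal_ideal] at ha
        exact nilpotent_iff_mem_prime.2 fun J hJ => (PrimeSpectrum.mem_vanishingIdeal _ _).1 ha ⟨J, hJ⟩ trivial
      exact RingHom.mem_ker.2 (IsReduced.eq_zero _ (ha'.map (x.left.app U).hom))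
    refine ⟨Over.homMk (IsClosedImmersion.lift i.left x.left H) ?_, Over.OverMorphism.ext ?_⟩
    · rw [← Over.w i, IsClosedImmersion.lift_fac_assoc, Over.w]
    · exact IsClosedImmersion.lift_fac _ _ _
  have hRR : IsReduced (R ⊗ R).left := by
    obtain ⟨_, u, hu⟩ := GrpQ.InfAgree.exists_algebra (X := R) R.left.isoSpec.inv
    have e1 := Over.w u
    have hA : IsReduced (Spec Γ(R.left, ⊤)) := isReduced_of_isOpenImmersion R.left.isoSpec.inv
    rw [affine_isReduced_iff] at hA
    have := isReduced_tensor (k := k) Γ(R.left, ⊤) Γ(R.left, ⊤)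
    have : IsReduced (Spec (CommRingCat.of (Γ(R.left, ⊤) ⊗[k] Γ(R.left, ⊤)))) := by
      rw [affine_isReduced_iff]; exact this
    have h3 : IsReduced (pullback (u.left ≫ R.hom) (u.left ≫ R.hom)) :=
      isReduced_of_isOpenImmersion ((pullback.congrHom e1 e1).hom ≫ (pullbackSpecIso k _ _).hom)
    have : IsIso u.left := by rw [hu]; infer_instance
    let m : pullback (u.left ≫ R.hom) (u.left ≫ R.hom) ⟶ pullback R.hom R.hom :=
      pullback.map _ _ _ _ u.left u.left (𝟙 _) (Category.comp_id _) (Category.comp_id _)
    exact isReduced_of_isOpenImmersion (inv m)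
  obtain ⟨_, hmon⟩ := GrpQ.InfSub.exists_grpObj_of_mono i
    (hfac _ (inferInstanceAs (IsReduced (Spec (CommRingCat.of k)))))
    (hfac _ hRR) (hfac _ hR)
  exact ⟨R, inferInstance, i, hmon, hi, hs, hR⟩

theorem isIso_of_mono_of_flat_surjective {X Y : Scheme.{u}} (f : X ⟶ Y) [Mono f] [Flat f] [Surjective f]
    [QuasiCompact f] : IsIso f :=
  MorphismProperty.of_pullback_snd_of_descendsAlong (P := MorphismProperty.isomorphisms Scheme.{u})
    (Q := @Surjective ⊓ @Flat ⊓ @QuasiCompact) (f := f) (g := f)
    ⟨⟨‹Surjective f›, ‹Flat f›⟩, ‹QuasiCompact f›⟩ (inferInstanceAs (IsIso (pullback.snd f f)))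

/-- Over an algebraically closed field the source is affine. -/
theorem isAffine_of_isAlgClosed [IsAlgClosed k] {G C : Over (Spec (CommRingCat.of k))} [GrpObj G] [GrpObj C]
    [IsAffine C.left] (p : G ⟶ C) [IsMonHom p] [Mono p.left] [QuasiCompact p.left]
    (hd : DenseRange p.left.base) : IsAffine G.left := by
  obtain ⟨R, _, i, hi, hic, his, hR⟩ := exists_reduced_subgroup C
  have hsp := (S5355.result k G C p hd).1
  let P : Over (Spec (CommRingCat.of k)) := Over.mk (pullback.fst p.left i.left ≫ G.hom)
  let j : P ⟶ G := Over.homMk (pullback.fst p.left i.left) rfl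
  let q : P ⟶ R := Over.homMk (pullback.snd p.left i.left) (by
    change _ = pullback.fst p.left i.left ≫ G.hom
    rw [← Over.w p, pullback.condition_assoc, Over.w i])
  have w : j ≫ p = q ≫ i := Over.OverMorphism.ext pullback.condition
  have hj : IsClosedImmersion j.left := inferInstanceAs (IsClosedImmersion (pullback.fst p.left i.left))
  have hjs : Surjective j.left := inferInstanceAs (Surjective (pullback.fst p.left i.left))
  have := GrpQ.mono_of_left j
  have := GrpQ.mono_of_left i
  have hfac : ∀ {T : Over (Spec (CommRingCat.of k))} (x : T ⟶ G) (y : T ⟶ R), x ≫ p = y ≫ i →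
      ∃ z, z ≫ j = x := fun x y e =>
    ⟨Over.homMk (pullback.lift x.left y.left congr($(e).left)) (by
      change _ ≫ pullback.fst _ _ ≫ G.hom = _
      rw [pullback.lift_fst_assoc, Over.w]), Over.OverMorphism.ext (pullback.lift_fst _ _ _)⟩
  obtain ⟨_, hjm⟩ := GrpQ.InfSub.exists_grpObj_of_mono j
    (hfac η[G] η[R] (by rw [IsMonHom.one_hom, IsMonHom.one_hom]))
    (hfac _ ((fst P P ≫ q) * (snd P P ≫ q)) (by
      simp only [MonObj.mul_comp, Category.assoc, w]))
    (hfac _ q⁻¹ (by rw [GrpObj.inv_comp, GrpObj.inv_comp, w]))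
  have hq : IsMonHom q := GrpQ.DomFlat.isMonHom_of_comp_mono q i (by rw [← w]; infer_instance)
  have : QuasiCompact q.left := inferInstanceAs (QuasiCompact (pullback.snd p.left i.left))
  have : Surjective q.left := inferInstanceAs (Surjective (pullback.snd p.left i.left))
  have : Mono q.left := inferInstanceAs (Mono (pullback.snd p.left i.left))
  have : Flat q.left := (S5355.result k P R q q.left.surjective.denseRange).2 hR
  have := isIso_of_mono_of_flat_surjective q.left
  have : IsAffine R.left := isAffine_of_isAffineHom i.left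
  have : IsAffine P.left := isAffine_of_isAffineHom q.left
  exact Lim.Thickening.isAffine_of_surjective j.left

/-- A quasi-compact monomorphism to an affine group scheme is a closed immersion. -/
theorem isClosedImmersion {G H : Over (Spec (CommRingCat.of k))} [GrpObj G] [GrpObj H] [IsAffine H.left]
    (u : G ⟶ H) [IsMonHom u] [Mono u] [QuasiCompact u.left] : IsClosedImmersion u.left := by
  have : QuasiCompact G.hom := by rw [← Over.w u]; infer_instance
  have : Mono u.left := (Over.forget _).map_mono u
  obtain ⟨C, _, p, i, hp, hi, hpi, hstd, hcl⟩ := GrpQ.Image.exists_image u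
  have : IsAffine C.left := isAffine_of_isAffineHom i.left
  have hui : p.left ≫ i.left = u.left := congr($(hpi).left)
  have : Mono p.left := by
    have : Mono (p.left ≫ i.left) := by rw [hui]; infer_instance
    exact mono_of_mono p.left i.left
  have : QuasiCompact p.left := GrpQ.quasiCompact_left p
  -- affineness of the source
  let K := AlgebraicClosure k
  let b := GrpSch.extBase k K
  let p' : Red.bc b G ⟶ Red.bc b C := (Over.pullback b).map p
  have : IsAffineHom (Red.bc b C).hom := GrpSch.bc_hom_of (P := @IsAffineHom) b C inferInstance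
  have : IsAffine (Red.bc b C).left := isAffine_of_isAffineHom (Red.bc b C).hom
  have : IsMonHom p' := inferInstanceAs (IsMonHom ((Over.pullback b).map p))
  have : QuasiCompact p'.left := GrpSch.bc_map_left_of (P := @QuasiCompact) b p inferInstance
  have : Mono p'.left := GrpSch.bc_map_left_of (P := MorphismProperty.monomorphisms Scheme.{u}) b p ‹_›
  have : Flat (GrpSch.bcProj b C) :=
    GrpSch.bcProj_of (P := @Flat) b C (GrpSch.extBase_surjective_flat_qc k K).1.2
  have : IsSchemeTheoreticallyDominant p'.left :=
    IsSchemeTheoreticallyDominant.of_isPullback (GrpSch.isPullback_bc_map b p).flip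
  have : IsAffine (Red.bc b G).left := isAffine_of_isAlgClosed p' p'.left.denseRange
  have := Tori.AffineDescent.descendsAlong_isAffineHom.{u}
  have : IsAffineHom p.left :=
    GrpSch.of_bc_map_left k K (P := @IsAffineHom) p (show IsAffineHom p'.left from inferInstance)
  have : IsAffine G.left := isAffine_of_isAffineHom p.left
  -- Hopf algebras
  obtain ⟨B, _, _, eG, heG⟩ := H1.Hopf.exists_iso G
  obtain ⟨A, _, _, eC, heC⟩ := H1.Hopf.exists_iso C
  have : IsIso eG.inv.left := ((Over.forget _).mapIso eG.symm).isIso_hom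
  have : IsIso eC.hom.left := ((Over.forget _).mapIso eC).isIso_hom
  have : IsIso eC.inv.left := ((Over.forget _).mapIso eC.symm).isIso_hom
  have : IsIso eG.hom.left := ((Over.forget _).mapIso eG).isIso_hom
  have : IsMonHom eG.inv :=
    GrpQ.DomFlat.isMonHom_of_comp_mono eG.inv eG.hom (by rw [eG.inv_hom_id]; infer_instance)
  let f : GrpQ.AffQ.sp k B ⟶ GrpQ.AffQ.sp k A := eG.inv ≫ p ≫ eC.hom
  have : IsMonHom f := inferInstanceAs (IsMonHom (eG.inv ≫ p ≫ eC.hom))
  obtain ⟨φ, hφ⟩ := GrpQ.DomFlat.exists_bialgHom f
  have hf : IsSchemeTheoreticallyDominant f.left := by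
    change IsSchemeTheoreticallyDominant (eG.inv.left ≫ p.left ≫ eC.hom.left); infer_instance
  have hfi : Function.Injective φ := by
    have h1 := GrpQ.Image.appTop_injective f.left
    rw [← hφ, GrpQ.AffQ.homOfBialgHom_left] at h1
    intro x y hxy
    apply (Scheme.ΓSpecIso (CommRingCat.of A)).commRingCatIsoToRingEquiv.symm.injective
    apply h1
    have hn := Scheme.ΓSpecIso_inv_naturality (CommRingCat.ofHom (φ : A →+* B))
    have hx := ConcreteCategory.congr_hom hn x
    have hy := ConcreteCategory.congr_hom hn y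
    refine hx.symm.trans (Eq.trans ?_ hy)
    simp only [ConcreteCategory.comp_apply]
    exact congrArg _ hxy
  obtain ⟨h1, h2⟩ := GrpQ.DomFlat.flat_surjective_of_injective φ hfi
  rw [hφ] at h1 h2
  have hpf : p.left = eG.hom.left ≫ f.left ≫ eC.inv.left := by
    simp only [← Over.comp_left]; simp [f]
  have : Flat p.left := by rw [hpf]; infer_instance
  have : Surjective p.left := by rw [hpf]; infer_instance
  have := isIso_of_mono_of_flat_surjective p.left
  rw [← hui]
  infer_instance

end Groth.Agent.Lib.QCMono89
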